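import Cfsg.Agent.Lib.Char.Regular
import Cfsg.Agent.Lib.Block.Singular

/-!
# Real characters of odd degree and the principal 2-block
-/

namespace Cfsg.Agent.Lib.RealOdd

open Cfsg Cfsg.Agent.Lib.Block
open scoped ComplexConjugate

universe u

variable {M : Ideal AlgInt} [M.IsPrime] {G : Type u} [Group G] [Fintype G]

lemma centralizer_inv (g : G) :
    Subgroup.centralizer ({g⁻¹} : Set G) = Subgroup.centralizer ({g} : Set G) := by
  ext x
  simp only [Subgroup.mem_centralizer_singleton_iff]
  exact ⟨fun h => by simpa using (show Commute x g⁻¹ from h).inv_right.eq,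
    fun h => (show Commute x g from h).inv_right.eq⟩

/-- The principal block is closed under complex conjugation, seen on its idempotent. -/
lemma blockCoeff_principal_inv (g : G) :
    blockCoeff (principalBlock M G) g⁻¹ = blockCoeff (principalBlock M G) g := by
  classical
  have hclosed : ∀ ψ : IrrCharacter G, ∀ φ : IrrCharacter G,
      (φ : G → ℂ) = (fun x => conj ((ψ : G → ℂ) x)) →
      ψ ∈ principalBlock M G → φ ∈ principalBlock M G := by
    intro ψ φ hφ hψ x
    have h := hψ x⁻¹
    have h1 : centralChar (φ : G → ℂ) x = centralChar (ψ : G → ℂ) x⁻¹ := by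
      simp only [centralChar, hφ, centralizer_inv,
        Char.char_inv (Char.isCharacter_of_isIrr ψ.2) x]
      rw [show conj ((ψ : G → ℂ) 1) = (ψ : G → ℂ) 1 by
        rw [← Char.char_inv (Char.isCharacter_of_isIrr ψ.2) 1, inv_one]]
    have h2 : centralChar (fun _ : G => (1 : ℂ)) x = centralChar (fun _ : G => (1 : ℂ)) x⁻¹ := by
      simp only [centralChar, centralizer_inv]
    rw [h1, h2]
    exact h
  have hcj : ∀ ψ : IrrCharacter G, IsIrrCharacter G (fun x => conj ((ψ : G → ℂ) x)) :=
    fun ψ => Char.isIrrCharacter_conj ψ.2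
  let e : IrrCharacter G ≃ IrrCharacter G :=
    { toFun := fun ψ => ⟨_, hcj ψ⟩
      invFun := fun ψ => ⟨_, hcj ψ⟩
      left_inv := fun ψ => Subtype.ext (by funext x; simp)
      right_inv := fun ψ => Subtype.ext (by funext x; simp) }
  rw [blockCoeff_eq_sum, blockCoeff_eq_sum]
  congr 1
  refine Fintype.sum_equiv e _ _ fun ψ => ?_
  have hiff : e ψ ∈ principalBlock M G ↔ ψ ∈ principalBlock M G :=
    ⟨fun h => hclosed (e ψ) ψ (by funext x; simp [e]) h, fun h => hclosed ψ (e ψ) rfl h⟩
  simp only [hiff]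
  split_ifs
  · have hc := Char.isCharacter_of_isIrr ψ.2
    simp only [e, Equiv.coe_fn_mk]
    rw [Char.char_inv hc, show conj ((ψ : G → ℂ) 1) = (ψ : G → ℂ) 1 by
      rw [← Char.char_inv hc 1, inv_one]]
  · rfl

/-- An inversion-invariant local integral sum over odd order elements is congruent to the
term at the identity. -/
lemma redC_sum_regular (hM : IsPModular 2 M) {f : G → ℂ} (hint : ∀ x, f x ∈ locRing M)
    (hinv : ∀ x, f x⁻¹ = f x) :
    redC M (∑ x ∈ Finset.univ.filter (fun x : G => ¬ 2 ∣ orderOf x), f x) = redC M (f 1) := by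
  classical
  haveI := resField_charP (M := M) hM
  rw [redC_sum _ (fun x _ => hint x),
    ← Finset.add_sum_erase _ _ (Finset.mem_filter.mpr ⟨Finset.mem_univ (1 : G),
      by rw [orderOf_one]; norm_num⟩)]
  refine add_eq_left.mpr ?_
  refine Finset.sum_involution (fun x _ => x⁻¹) (fun x _ => ?_) (fun x hx _ he => ?_)
    (fun x hx => ?_) (fun x _ => inv_inv x)
  · rw [hinv]; exact CharTwo.add_self_eq_zero _
  · simp only [Finset.mem_erase, Finset.mem_filter, Finset.mem_univ, true_and] at hx
    have hd : orderOf x ∣ 2 := by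
      apply orderOf_dvd_of_pow_eq_one
      rw [pow_two]
      nth_rw 1 [← he]
      exact inv_mul_cancel x
    rcases (Nat.dvd_prime Nat.prime_two).mp hd with h | h
    · exact hx.1 (orderOf_eq_one_iff.mp h)
    · exact hx.2 (by rw [h])
  · simp only [Finset.mem_erase, Finset.mem_filter, Finset.mem_univ, true_and, ne_eq, inv_eq_one,
      orderOf_inv] at hx ⊢
    exact hx

lemma apply_inv_of_real {χ : IrrCharacter G} (hreal : ∀ g : G, ((χ : G → ℂ) g).im = 0) (x : G) :
    (χ : G → ℂ) x⁻¹ = (χ : G → ℂ) x := by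
  rw [Char.char_inv (Char.isCharacter_of_isIrr χ.2)]
  exact Complex.conj_eq_iff_im.mpr (hreal x)

/-- A real irreducible character of odd degree lies in the principal 2-block. -/
theorem mem_principal (hM : IsPModular 2 M) {χ : IrrCharacter G}
    (hreal : ∀ g : G, ((χ : G → ℂ) g).im = 0) (hodd : Odd (charDegree (χ : G → ℂ))) :
    χ ∈ principalBlock M G := by
  classical
  set B := principalBlock M G with hB
  have hBb : IsPBlock M B := ⟨⟨_, Char.isIrrCharacter_one⟩, rfl⟩
  have hn : ¬ (2 ∣ charDegree (χ : G → ℂ)) := fun h => by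
    obtain ⟨k, hk⟩ := hodd; omega
  have hunit : ((χ : G → ℂ) 1)⁻¹ ∈ locRing M := by
    rw [irr_one_eq_natCast]; exact inv_natCast_mem_locRing hM hn
  have key : ∀ φ : IrrCharacter G, (∀ x, (φ : G → ℂ) x⁻¹ = (φ : G → ℂ) x) →
      ((φ : G → ℂ) 1)⁻¹ ∈ locRing M →
      redC M (omega (φ : G → ℂ) (eIdem B)) = redC M (blockCoeff B 1) := by
    intro φ hφ hu
    let f : G → ℂ := fun x => blockCoeff B x * (φ : G → ℂ) x * ((φ : G → ℂ) 1)⁻¹
    have hf : omega (φ : G → ℂ) (eIdem B) =
        ∑ x ∈ Finset.univ.filter (fun x : G => ¬ 2 ∣ orderOf x), f x := by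
      rw [omega_eq_sum, div_eq_mul_inv, Finset.sum_mul, Finset.sum_filter]
      refine Finset.sum_congr rfl fun x _ => ?_
      by_cases hx : 2 ∣ orderOf x
      · rw [if_neg (not_not_intro hx), coeff_eIdem, blockCoeff_eq_zero_of_singular hM hBb hx]
        simp
      · rw [if_pos hx, coeff_eIdem]
    rw [hf, redC_sum_regular hM
      (fun x => mul_mem (mul_mem (by rw [← coeff_eIdem]; exact intR_eIdem hBb x)
        (integral_mem_locRing (Char.char_isIntegral (Char.isCharacter_of_isIrr φ.2) x))) hu)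
      (fun x => by show blockCoeff B x⁻¹ * _ * _ = _; rw [blockCoeff_principal_inv, hφ])]
    show redC M (blockCoeff B 1 * _ * _) = _
    rw [mul_assoc, mul_inv_cancel₀ (Char.irr_degree_ne_zero φ.2), mul_one]
  by_contra hmem
  have h1 := key χ (apply_inv_of_real hreal) hunit
  have h2 := key ⟨_, Char.isIrrCharacter_one⟩ (fun _ => rfl) (by show (1 : ℂ)⁻¹ ∈ locRing M; rw [inv_one]; exact one_mem _)
  rw [omega_eIdem, if_neg hmem, redC_zero] at h1
  rw [omega_eIdem, if_pos (show (⟨_, Char.isIrrCharacter_one⟩ : IrrCharacter G) ∈ B from sameBlock_refl ⟨_, Char.isIrrCharacter_one⟩), redC_one, ← h1] at h2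
  exact one_ne_zero h2

/-- The number of real irreducible characters of odd degree. -/
theorem card_real_odd_le (hM : IsPModular 2 M) :
    Nat.card {χ : IrrCharacter G // (∀ g : G, ((χ : G → ℂ) g).im = 0) ∧
      Odd (charDegree (χ : G → ℂ))} ≤ 2 ^ (2 * (Nat.card G).factorization 2) := by
  classical
  haveI := resField_charP (M := M) hM
  set a := (Nat.card G).factorization 2 with ha
  set F : G → ℂ := Char.regFun 2 ((2 ^ a : ℕ) : ℂ) (fun _ => 1) with hF
  have hgen : IsGeneralizedCharacter G F := by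
    have := Char.regFun_isGeneralized (G := G) Char.isIrrCharacter_one Nat.prime_two (d := 0)
      (by simp)
    simpa [hF, ha] using this
  choose c hc using fun ψ : IrrCharacter G =>
    Char.classInner_intCast hgen (Char.isCharacter_of_isIrr ψ.2)
  obtain ⟨m, hm⟩ := Nat.ordProj_dvd (Nat.card G) 2
  -- the multiplicity of a real odd degree character is nonzero
  have hne : ∀ ψ : IrrCharacter G, (∀ g : G, ((ψ : G → ℂ) g).im = 0) →
      Odd (charDegree (ψ : G → ℂ)) → c ψ ≠ 0 := by
    intro ψ hreal hodd h0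
    have h := hc ψ
    rw [h0, Int.cast_zero] at h
    have hsum : ∑ x ∈ Finset.univ.filter (fun x : G => ¬ 2 ∣ orderOf x),
        (ψ : G → ℂ) x = 0 := by
      simp only [classInner, hF] at h
      have h2 := (mul_eq_zero.mp h).resolve_left (inv_ne_zero (Char.card_ne_zero_complex G))
      have h3 : ((2 ^ a : ℕ) : ℂ) * ∑ x ∈ Finset.univ.filter (fun x : G => ¬ 2 ∣ orderOf x),
          (ψ : G → ℂ) x = 0 := by
        rw [← h2, Finset.sum_filter, Finset.mul_sum]
        refine Finset.sum_congr rfl fun x _ => ?_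
        by_cases hx : 2 ∣ orderOf x
        · simp [Char.regFun, hx]
        · simp [Char.regFun, hx, Complex.conj_eq_iff_im.mpr (hreal x)]
      exact (mul_eq_zero.mp h3).resolve_left (Nat.cast_ne_zero.mpr (by positivity))
    have h4 := redC_sum_regular hM
      (fun x => integral_mem_locRing (Char.char_isIntegral (Char.isCharacter_of_isIrr ψ.2) x))
      (apply_inv_of_real hreal)
    rw [hsum, redC_zero, irr_one_eq_natCast, redC_natCast] at h4
    have := (CharP.cast_eq_zero_iff (ResField M) 2 (charDegree (ψ : G → ℂ))).mp h4.symm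
    obtain ⟨k, hk⟩ := hodd
    omega
  have hnorm : ((∑ ψ : IrrCharacter G, c ψ ^ 2 : ℤ) : ℂ) * (Nat.card G : ℂ) =
      ((2 ^ (2 * a) * (Finset.univ.filter fun x : G => ¬ 2 ∣ orderOf x).card : ℕ) : ℂ) := by
    have h1 : classInner F F = ((∑ ψ : IrrCharacter G, c ψ ^ 2 : ℤ) : ℂ) := by
      have hcf : IsClassFunction G F := Char.isClassFunction_regFun 2 _ (fun _ _ => rfl)
      rw [Char.classInner_eq_sum hcf]
      push_cast
      refine Finset.sum_congr rfl fun ψ _ => ?_
      rw [hc, map_intCast, pow_two]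
    rw [← h1, classInner, mul_comm, ← mul_assoc, mul_inv_cancel₀ (Char.card_ne_zero_complex G),
      one_mul, Nat.cast_mul, mul_comm ((2 ^ (2 * a) : ℕ) : ℂ), Finset.card_filter, Nat.cast_sum,
      Finset.sum_mul]
    refine Finset.sum_congr rfl fun x _ => ?_
    by_cases hx : 2 ∣ orderOf x
    · simp [hF, Char.regFun, hx]
    · simp [hF, Char.regFun, hx, map_ofNat]
      ring
  have hle : (∑ ψ : IrrCharacter G, c ψ ^ 2) ≤ ((2 ^ (2 * a) : ℕ) : ℤ) := by
    have h1 : (∑ ψ : IrrCharacter G, c ψ ^ 2) * (Nat.card G : ℤ) =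
        ((2 ^ (2 * a) * (Finset.univ.filter fun x : G => ¬ 2 ∣ orderOf x).card : ℕ) : ℤ) := by
      exact_mod_cast hnorm
    refine le_of_mul_le_mul_right ?_ (Nat.cast_pos.mpr (Nat.card_pos (α := G)) : (0 : ℤ) < _)
    rw [h1, Nat.cast_mul]
    refine mul_le_mul_of_nonneg_left ?_ (Nat.cast_nonneg _)
    rw [Nat.card_eq_fintype_card]
    exact_mod_cast Finset.card_le_univ _
  rw [Nat.card_eq_fintype_card, Fintype.card_subtype]
  have h2 : (((Finset.univ.filter fun χ : IrrCharacter G => (∀ g : G, ((χ : G → ℂ) g).im = 0) ∧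
      Odd (charDegree (χ : G → ℂ))).card : ℕ) : ℤ) ≤ ∑ ψ : IrrCharacter G, c ψ ^ 2 := by
    rw [Finset.card_filter, Nat.cast_sum]
    refine Finset.sum_le_sum fun ψ _ => ?_
    split_ifs with h
    · have : 0 < c ψ ^ 2 := by
        have := hne ψ h.1 h.2
        positivity
      push_cast
      omega
    · simpa using sq_nonneg (c ψ)
  exact_mod_cast h2.trans hle

end Cfsg.Agent.Lib.RealOdd
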