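import Cfsg.Agent.Lib.RealOdd.Basic
import Cfsg.Agent.Lib.Block.Defect

/-!
# Full defect 2-blocks whose central characters are inversion invariant
-/

namespace Cfsg.Agent.Lib.RealOdd

open Cfsg Cfsg.Agent.Lib.Block
open scoped ComplexConjugate

universe u

variable {M : Ideal AlgInt} [M.IsPrime] {G : Type u} [Group G] [Fintype G]

lemma centralChar_conj (χ : IrrCharacter G) {a b : G} (h : IsConj a b) :
    centralChar (χ : G → ℂ) a = centralChar (χ : G → ℂ) b := by
  classical
  obtain ⟨u, rfl⟩ := isConj_iff.mp h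
  simp only [centralChar]
  rw [Char.isClassFunction_of_isIrr χ.2 a u, ← Char.card_conjClass_eq_index,
    ← Char.card_conjClass_eq_index]
  congr 4
  exact Finset.filter_congr fun x _ => ⟨fun hx => hx.trans h, fun hx => hx.trans h.symm⟩

/-- A real class of a nontrivial odd order element has even size. -/
lemma redC_index_of_real (hM : IsPModular 2 M) {g : G} (hg : IsConj g g⁻¹) (h1 : g ≠ 1)
    (hodd : ¬ 2 ∣ orderOf g) :
    redC M (((Subgroup.centralizer ({g} : Set G)).index : ℂ)) = 0 := by
  classical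
  haveI := resField_charP (M := M) hM
  rw [← Char.card_conjClass_eq_index, redC_natCast,
    Finset.card_eq_sum_ones, Nat.cast_sum]
  refine Finset.sum_involution (fun x _ => x⁻¹) (fun x _ => CharTwo.add_self_eq_zero _)
    (fun x hx _ he => ?_) (fun x hx => ?_) (fun x _ => inv_inv x)
  · have hx' := (Finset.mem_filter.mp hx).2
    obtain ⟨u, hu⟩ := isConj_iff.mp hx'
    have ho : orderOf g = orderOf x := by
      rw [← hu]; exact MulEquiv.orderOf_eq (MulAut.conj u) x
    have hd : orderOf x ∣ 2 := by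
      apply orderOf_dvd_of_pow_eq_one
      rw [pow_two]
      nth_rw 1 [← he]
      exact inv_mul_cancel x
    rcases (Nat.dvd_prime Nat.prime_two).mp hd with h | h
    · exact h1 (orderOf_eq_one_iff.mp (ho.trans h))
    · exact hodd (by rw [ho, h])
  · refine Finset.mem_filter.mpr ⟨Finset.mem_univ _, ?_⟩
    have hx' : IsConj x g := (Finset.mem_filter.mp hx).2
    obtain ⟨u, hu⟩ := isConj_iff.mp hx'
    refine (isConj_iff.mpr ⟨u, ?_⟩ : IsConj x⁻¹ g⁻¹).trans hg.symm
    rw [← hu]; group

/-- An odd degree character whose central character is invariant under inversion modulo `M` on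
odd order elements lies in the principal block. -/
theorem mem_principal_of_inv (hM : IsPModular 2 M) {χ : IrrCharacter G}
    (hodd : ¬ 2 ∣ charDegree (χ : G → ℂ))
    (hinv : ∀ g : G, ¬ 2 ∣ orderOf g →
      redC M (centralChar (χ : G → ℂ) g⁻¹) = redC M (centralChar (χ : G → ℂ) g)) :
    χ ∈ principalBlock M G := by
  classical
  haveI := resField_charP (M := M) hM
  set B := principalBlock M G with hB
  have hBb : IsPBlock M B := ⟨⟨_, Char.isIrrCharacter_one⟩, rfl⟩
  have hb : ∀ a b : G, IsConj a b → blockCoeff B a = blockCoeff B b := fun a b h => by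
    obtain ⟨u, rfl⟩ := isConj_iff.mp h
    exact (isClassFunction_blockCoeff B a u).symm
  have key : ∀ φ : IrrCharacter G, ¬ 2 ∣ charDegree (φ : G → ℂ) →
      (∀ g : G, ¬ 2 ∣ orderOf g →
        redC M (centralChar (φ : G → ℂ) g⁻¹) = redC M (centralChar (φ : G → ℂ) g)) →
      redC M (omega (φ : G → ℂ) (eIdem B)) = redC M (blockCoeff B 1) := by
    intro φ hφ hφi
    rw [redC_omega_eq_sum φ (isClassCoeff_eIdem B) (intR_eIdem hBb)]
    simp only [coeff_eIdem]
    rw [← Finset.add_sum_erase _ _ (Finset.mem_univ (ConjClasses.mk (1 : G)))]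
    have hout : ∀ C : ConjClasses G, ConjClasses.mk C.out = C := fun C => Quotient.out_eq C
    have h1 : (ConjClasses.mk (1 : G)).out = 1 := by
      have := ConjClasses.mk_eq_mk_iff_isConj.mp (hout (ConjClasses.mk (1 : G)))
      exact isConj_one_left.mp this
    rw [h1]
    have hc1 : centralChar (φ : G → ℂ) (1 : G) = 1 := by
      have : Subgroup.centralizer ({(1 : G)} : Set G) = ⊤ := by
        ext x; simp [Subgroup.mem_centralizer_singleton_iff]
      simp [centralChar, this, Char.irr_degree_ne_zero φ.2]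
    rw [hc1, redC_one, mul_one]
    refine add_eq_left.mpr ?_
    have hinvout : ∀ C : ConjClasses G, IsConj (ConjClasses.mk C.out⁻¹).out C.out⁻¹ := fun C =>
      ConjClasses.mk_eq_mk_iff_isConj.mp (hout _)
    refine Finset.sum_involution (fun C _ => ConjClasses.mk C.out⁻¹) (fun C _ => ?_)
      (fun C hC hne he => ?_) (fun C hC => ?_) (fun C _ => ?_)
    · rw [hb _ _ (hinvout C), centralChar_conj φ (hinvout C), blockCoeff_principal_inv]
      by_cases ho : 2 ∣ orderOf C.out
      · rw [blockCoeff_eq_zero_of_singular hM hBb ho, redC_zero, zero_mul, zero_add, zero_mul]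
      · rw [hφi _ ho, CharTwo.add_self_eq_zero]
    · by_cases ho : 2 ∣ orderOf C.out
      · exact hne (by rw [blockCoeff_eq_zero_of_singular hM hBb ho, redC_zero, zero_mul])
      have hreal : IsConj C.out C.out⁻¹ := by
        apply ConjClasses.mk_eq_mk_iff_isConj.mp
        rw [hout]; exact he.symm
      have hne1 : C.out ≠ 1 := fun h => (Finset.ne_of_mem_erase hC) (by rw [← hout C, h])
      apply hne
      rw [centralChar, mul_div_assoc, redC_mul (natCast_mem _ _), redC_index_of_real hM hreal hne1 ho,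
        zero_mul, mul_zero]
      rw [div_eq_mul_inv, irr_one_eq_natCast]
      exact mul_mem (irr_mem_locRing φ _) (inv_natCast_mem_locRing hM hφ)
    · refine Finset.mem_erase.mpr ⟨fun h => (Finset.ne_of_mem_erase hC) ?_, Finset.mem_univ _⟩
      have h2 := ConjClasses.mk_eq_mk_iff_isConj.mp h
      have h3 : C.out⁻¹ = 1 := isConj_one_left.mp h2
      rw [← hout C, inv_eq_one.mp h3]
    · show ConjClasses.mk (ConjClasses.mk C.out⁻¹).out⁻¹ = C
      obtain ⟨u, hu⟩ := isConj_iff.mp (hinvout C)
      refine Eq.trans (ConjClasses.mk_eq_mk_iff_isConj.mpr ?_) (hout C)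
      refine isConj_iff.mpr ⟨u, ?_⟩
      generalize (ConjClasses.mk C.out⁻¹).out = a at hu ⊢
      calc u * a⁻¹ * u⁻¹ = (u * a * u⁻¹)⁻¹ := by group
        _ = C.out := by rw [hu, inv_inv]
  have hd1 : ¬ 2 ∣ charDegree (fun _ : G => (1 : ℂ)) := by rw [Char.charDegree_one]; norm_num
  by_contra hmem
  have h2 := key χ hodd hinv
  have h3 := key ⟨_, Char.isIrrCharacter_one⟩ hd1 (fun g _ => by
    simp only [centralChar, centralizer_inv])
  rw [omega_eIdem, if_neg hmem, redC_zero] at h2
  rw [omega_eIdem, if_pos (show (⟨_, Char.isIrrCharacter_one⟩ : IrrCharacter G) ∈ B from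
    sameBlock_refl ⟨_, Char.isIrrCharacter_one⟩), redC_one, ← h2] at h3
  exact one_ne_zero h3

/-- A full defect block stable under a power map inverting odd order elements is principal. -/
theorem eq_principal_of_stable (hM : IsPModular 2 M) {k : ℕ}
    (hk₂ : ∀ g : G, Odd (orderOf g) → g ^ k = g⁻¹) {B : Set (IrrCharacter G)} (hB : IsPBlock M B)
    (hdef : blockDefect 2 B = (Nat.card G).factorization 2)
    (hstab : ∀ χ ∈ B, ∃ ψ ∈ B, ∀ g : G, ¬ 2 ∣ orderOf g → (ψ : G → ℂ) g = (χ : G → ℂ) (g ^ k)) :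
    B = principalBlock M G := by
  classical
  obtain ⟨χ, hχ, hh⟩ := exists_height_zero hB 2
  have hdeg : ¬ 2 ∣ charDegree (χ : G → ℂ) := by
    intro hd
    have h1 := blockDefect_eq_of_min hχ hh
    rw [hdef] at h1
    have h2 : 0 < (charDegree (χ : G → ℂ)).factorization 2 :=
      Nat.Prime.factorization_pos_of_dvd Nat.prime_two (Char.charDegree_pos χ.2).ne' hd
    have h3 : (charDegree (χ : G → ℂ)).factorization 2 ≤ (Nat.card G).factorization 2 :=
      (Nat.factorization_le_iff_dvd (Char.charDegree_pos χ.2).ne' Nat.card_pos.ne').mpr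
        (Char.irr_degree_dvd_card χ.2
          (Char.apply_one_eq_charDegree (Char.isCharacter_of_isIrr χ.2))) 2
    omega
  obtain ⟨ψ, hψ, hval⟩ := hstab χ hχ
  obtain ⟨χ₀, rfl⟩ := hB
  have hsame : SameBlock M (χ : G → ℂ) (ψ : G → ℂ) := sameBlock_trans (sameBlock_symm hχ) hψ
  have hone : (ψ : G → ℂ) 1 = (χ : G → ℂ) 1 := by
    rw [hval 1 (by rw [orderOf_one]; norm_num), one_pow]
  have hmem := mem_principal_of_inv hM hdeg (fun g hg => by
    have hgk := hk₂ g (Nat.odd_iff.mpr (by omega))
    have h1 := sameBlock_iff.mp hsame g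
    rw [h1]
    congr 1
    simp only [centralChar, centralizer_inv, hone, hval g hg, hgk])
  ext φ
  exact ⟨fun h => sameBlock_trans (show SameBlock M (((⟨_, Char.isIrrCharacter_one⟩ :
      IrrCharacter G) : G → ℂ)) (χ : G → ℂ) from hmem) (sameBlock_trans (sameBlock_symm hχ) h),
    fun h => sameBlock_trans hχ (sameBlock_trans (sameBlock_symm (show SameBlock M
      (((⟨_, Char.isIrrCharacter_one⟩ : IrrCharacter G) : G → ℂ)) (χ : G → ℂ) from hmem)) h)⟩

end Cfsg.Agent.Lib.RealOdd
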